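/-
Certificate data of a coset enumeration.
-/
import Cfsg.Agent.Lib.CosetEnum.Cox
import Cfsg.Agent.Lib.CosetEnum.PresSuz
import Cfsg.Agent.Lib.CosetEnum.Suz22880.Facts0
import Cfsg.Agent.Lib.CosetEnum.Suz22880.Facts1
import Cfsg.Agent.Lib.CosetEnum.Suz22880.Facts2
import Cfsg.Agent.Lib.CosetEnum.Suz22880.Facts3
import Cfsg.Agent.Lib.CosetEnum.Suz22880.Facts4
import Cfsg.Agent.Lib.CosetEnum.Suz22880.Facts5
import Cfsg.Agent.Lib.CosetEnum.Suz22880.Facts6
import Cfsg.Agent.Lib.CosetEnum.Suz22880.Facts7
import Cfsg.Agent.Lib.CosetEnum.Suz22880.Facts8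
import Cfsg.Agent.Lib.CosetEnum.Suz22880.Facts9
import Cfsg.Agent.Lib.CosetEnum.Suz22880.Facts10
import Cfsg.Agent.Lib.CosetEnum.Suz22880.Facts11
import Cfsg.Agent.Lib.CosetEnum.Suz22880.Facts12
import Cfsg.Agent.Lib.CosetEnum.Suz22880.Facts13
import Cfsg.Agent.Lib.CosetEnum.Suz22880.Facts14
import Cfsg.Agent.Lib.CosetEnum.Suz22880.Facts15
import Cfsg.Agent.Lib.CosetEnum.Suz22880.Facts16
import Cfsg.Agent.Lib.CosetEnum.Suz22880.Facts17
import Cfsg.Agent.Lib.CosetEnum.Suz22880.Facts18
import Cfsg.Agent.Lib.CosetEnum.Suz22880.Facts19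
import Cfsg.Agent.Lib.CosetEnum.Suz22880.Facts20
import Cfsg.Agent.Lib.CosetEnum.Suz22880.Facts21
import Cfsg.Agent.Lib.CosetEnum.Suz22880.Facts22
import Cfsg.Agent.Lib.CosetEnum.Suz22880.Facts23
import Cfsg.Agent.Lib.CosetEnum.Suz22880.Rows0
import Cfsg.Agent.Lib.CosetEnum.Suz22880.Rows1
import Cfsg.Agent.Lib.CosetEnum.Suz22880.Rows2
import Cfsg.Agent.Lib.CosetEnum.Suz22880.Rows3
import Cfsg.Agent.Lib.CosetEnum.Suz22880.Rows4
import Cfsg.Agent.Lib.CosetEnum.Suz22880.Rows5
import Cfsg.Agent.Lib.CosetEnum.Suz22880.Rows6
import Cfsg.Agent.Lib.CosetEnum.Suz22880.Rows7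
import Cfsg.Agent.Lib.CosetEnum.Suz22880.Rows8
import Cfsg.Agent.Lib.CosetEnum.Suz22880.Rows9
import Cfsg.Agent.Lib.CosetEnum.Suz22880.Rows10
import Cfsg.Agent.Lib.CosetEnum.Suz22880.Rows11
import Cfsg.Agent.Lib.CosetEnum.Suz22880.Rows12
import Cfsg.Agent.Lib.CosetEnum.Suz22880.Rows13
import Cfsg.Agent.Lib.CosetEnum.Suz22880.Rows14
import Cfsg.Agent.Lib.CosetEnum.Suz22880.Rows15
import Cfsg.Agent.Lib.CosetEnum.Suz22880.Rows16
import Cfsg.Agent.Lib.CosetEnum.Suz22880.Rows17
import Cfsg.Agent.Lib.CosetEnum.Suz22880.Rows18
import Cfsg.Agent.Lib.CosetEnum.Suz22880.Rows19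
import Cfsg.Agent.Lib.CosetEnum.Suz22880.Rows20
import Cfsg.Agent.Lib.CosetEnum.Suz22880.Rows21
import Cfsg.Agent.Lib.CosetEnum.Suz22880.Rows22
import Cfsg.Agent.Lib.CosetEnum.Suz22880.Points0
import Cfsg.Agent.Lib.CosetEnum.Suz22880.Points1
import Cfsg.Agent.Lib.CosetEnum.Suz22880.Points2
import Cfsg.Agent.Lib.CosetEnum.Suz22880.Points3
import Cfsg.Agent.Lib.CosetEnum.Suz22880.Points4
import Cfsg.Agent.Lib.CosetEnum.Suz22880.Points5

set_option autoImplicit false
set_option maxRecDepth 1000000

namespace CfsgLib.CosetEnum.Suz22880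

open CfsgLib.CosetEnum

theorem rels_eq : presSuz.rels = rels := by decide +kernel

theorem holds {Ω : Type} (base : Ω) (s : ℕ → Ω → Ω) (hinv : ∀ x v, s x (s x v) = v) (hk : ∀ v, s data.k v = v)
    (hwh : ∀ w < data.nh, run s (wordOf (data.words.get w)) base = base)
    (hwr : ∀ w, data.nh ≤ w → w < data.nw → ∀ v, run s (wordOf (data.words.get w)) v = v) :
    ∀ i < 95040, data.Holds base s i := by
  have h0 : ∀ i < 0, data.Holds base s i := fun i hi => absurd hi (Nat.not_lt_zero i)
  have h1 : ∀ i < 4000, data.Holds base s i := fun i hi =>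
    Data.okChunk_sound hinv hk hwh hwr just0 0 just0_ok h0 i (by rw [just0_len]; exact hi)
  have h2 : ∀ i < 8000, data.Holds base s i := fun i hi =>
    Data.okChunk_sound hinv hk hwh hwr just1 4000 just1_ok h1 i (by rw [just1_len]; exact hi)
  have h3 : ∀ i < 12000, data.Holds base s i := fun i hi =>
    Data.okChunk_sound hinv hk hwh hwr just2 8000 just2_ok h2 i (by rw [just2_len]; exact hi)
  have h4 : ∀ i < 16000, data.Holds base s i := fun i hi =>
    Data.okChunk_sound hinv hk hwh hwr just3 12000 just3_ok h3 i (by rw [just3_len]; exact hi)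
  have h5 : ∀ i < 20000, data.Holds base s i := fun i hi =>
    Data.okChunk_sound hinv hk hwh hwr just4 16000 just4_ok h4 i (by rw [just4_len]; exact hi)
  have h6 : ∀ i < 24000, data.Holds base s i := fun i hi =>
    Data.okChunk_sound hinv hk hwh hwr just5 20000 just5_ok h5 i (by rw [just5_len]; exact hi)
  have h7 : ∀ i < 28000, data.Holds base s i := fun i hi =>
    Data.okChunk_sound hinv hk hwh hwr just6 24000 just6_ok h6 i (by rw [just6_len]; exact hi)
  have h8 : ∀ i < 32000, data.Holds base s i := fun i hi =>
    Data.okChunk_sound hinv hk hwh hwr just7 28000 just7_ok h7 i (by rw [just7_len]; exact hi)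
  have h9 : ∀ i < 36000, data.Holds base s i := fun i hi =>
    Data.okChunk_sound hinv hk hwh hwr just8 32000 just8_ok h8 i (by rw [just8_len]; exact hi)
  have h10 : ∀ i < 40000, data.Holds base s i := fun i hi =>
    Data.okChunk_sound hinv hk hwh hwr just9 36000 just9_ok h9 i (by rw [just9_len]; exact hi)
  have h11 : ∀ i < 44000, data.Holds base s i := fun i hi =>
    Data.okChunk_sound hinv hk hwh hwr just10 40000 just10_ok h10 i (by rw [just10_len]; exact hi)
  have h12 : ∀ i < 48000, data.Holds base s i := fun i hi =>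
    Data.okChunk_sound hinv hk hwh hwr just11 44000 just11_ok h11 i (by rw [just11_len]; exact hi)
  have h13 : ∀ i < 52000, data.Holds base s i := fun i hi =>
    Data.okChunk_sound hinv hk hwh hwr just12 48000 just12_ok h12 i (by rw [just12_len]; exact hi)
  have h14 : ∀ i < 56000, data.Holds base s i := fun i hi =>
    Data.okChunk_sound hinv hk hwh hwr just13 52000 just13_ok h13 i (by rw [just13_len]; exact hi)
  have h15 : ∀ i < 60000, data.Holds base s i := fun i hi =>
    Data.okChunk_sound hinv hk hwh hwr just14 56000 just14_ok h14 i (by rw [just14_len]; exact hi)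
  have h16 : ∀ i < 64000, data.Holds base s i := fun i hi =>
    Data.okChunk_sound hinv hk hwh hwr just15 60000 just15_ok h15 i (by rw [just15_len]; exact hi)
  have h17 : ∀ i < 68000, data.Holds base s i := fun i hi =>
    Data.okChunk_sound hinv hk hwh hwr just16 64000 just16_ok h16 i (by rw [just16_len]; exact hi)
  have h18 : ∀ i < 72000, data.Holds base s i := fun i hi =>
    Data.okChunk_sound hinv hk hwh hwr just17 68000 just17_ok h17 i (by rw [just17_len]; exact hi)
  have h19 : ∀ i < 76000, data.Holds base s i := fun i hi =>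
    Data.okChunk_sound hinv hk hwh hwr just18 72000 just18_ok h18 i (by rw [just18_len]; exact hi)
  have h20 : ∀ i < 80000, data.Holds base s i := fun i hi =>
    Data.okChunk_sound hinv hk hwh hwr just19 76000 just19_ok h19 i (by rw [just19_len]; exact hi)
  have h21 : ∀ i < 84000, data.Holds base s i := fun i hi =>
    Data.okChunk_sound hinv hk hwh hwr just20 80000 just20_ok h20 i (by rw [just20_len]; exact hi)
  have h22 : ∀ i < 88000, data.Holds base s i := fun i hi =>
    Data.okChunk_sound hinv hk hwh hwr just21 84000 just21_ok h21 i (by rw [just21_len]; exact hi)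
  have h23 : ∀ i < 92000, data.Holds base s i := fun i hi =>
    Data.okChunk_sound hinv hk hwh hwr just22 88000 just22_ok h22 i (by rw [just22_len]; exact hi)
  have h24 : ∀ i < 95040, data.Holds base s i := fun i hi =>
    Data.okChunk_sound hinv hk hwh hwr just23 92000 just23_ok h23 i (by rw [just23_len]; exact hi)
  exact h24

theorem rows {Ω : Type} (base : Ω) (s : ℕ → Ω → Ω) (hinv : ∀ x v, s x (s x v) = v) (hk : ∀ v, s data.k v = v)
    (hwh : ∀ w < data.nh, run s (wordOf (data.words.get w)) base = base)
    (hwr : ∀ w, data.nh ≤ w → w < data.nw → ∀ v, run s (wordOf (data.words.get w)) v = v) :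
    ∀ d < 22880, RowOK data table base s d := by
  have hf := holds base s hinv hk hwh hwr
  have hk16 : data.k < 16 := show 7 < 16 by decide
  have h0 : ∀ d < 0, RowOK data table base s d := fun d hd => absurd hd (Nat.not_lt_zero d)
  have h1 : ∀ d < 1000, RowOK data table base s d := fun d hd =>
    okRows_sound hinv hk hk16 hf rows0 0 rows0_ok h0 d (by rw [rows0_len]; exact hd)
  have h2 : ∀ d < 2000, RowOK data table base s d := fun d hd =>
    okRows_sound hinv hk hk16 hf rows1 1000 rows1_ok h1 d (by rw [rows1_len]; exact hd)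
  have h3 : ∀ d < 3000, RowOK data table base s d := fun d hd =>
    okRows_sound hinv hk hk16 hf rows2 2000 rows2_ok h2 d (by rw [rows2_len]; exact hd)
  have h4 : ∀ d < 4000, RowOK data table base s d := fun d hd =>
    okRows_sound hinv hk hk16 hf rows3 3000 rows3_ok h3 d (by rw [rows3_len]; exact hd)
  have h5 : ∀ d < 5000, RowOK data table base s d := fun d hd =>
    okRows_sound hinv hk hk16 hf rows4 4000 rows4_ok h4 d (by rw [rows4_len]; exact hd)
  have h6 : ∀ d < 6000, RowOK data table base s d := fun d hd =>
    okRows_sound hinv hk hk16 hf rows5 5000 rows5_ok h5 d (by rw [rows5_len]; exact hd)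
  have h7 : ∀ d < 7000, RowOK data table base s d := fun d hd =>
    okRows_sound hinv hk hk16 hf rows6 6000 rows6_ok h6 d (by rw [rows6_len]; exact hd)
  have h8 : ∀ d < 8000, RowOK data table base s d := fun d hd =>
    okRows_sound hinv hk hk16 hf rows7 7000 rows7_ok h7 d (by rw [rows7_len]; exact hd)
  have h9 : ∀ d < 9000, RowOK data table base s d := fun d hd =>
    okRows_sound hinv hk hk16 hf rows8 8000 rows8_ok h8 d (by rw [rows8_len]; exact hd)
  have h10 : ∀ d < 10000, RowOK data table base s d := fun d hd =>
    okRows_sound hinv hk hk16 hf rows9 9000 rows9_ok h9 d (by rw [rows9_len]; exact hd)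
  have h11 : ∀ d < 11000, RowOK data table base s d := fun d hd =>
    okRows_sound hinv hk hk16 hf rows10 10000 rows10_ok h10 d (by rw [rows10_len]; exact hd)
  have h12 : ∀ d < 12000, RowOK data table base s d := fun d hd =>
    okRows_sound hinv hk hk16 hf rows11 11000 rows11_ok h11 d (by rw [rows11_len]; exact hd)
  have h13 : ∀ d < 13000, RowOK data table base s d := fun d hd =>
    okRows_sound hinv hk hk16 hf rows12 12000 rows12_ok h12 d (by rw [rows12_len]; exact hd)
  have h14 : ∀ d < 14000, RowOK data table base s d := fun d hd =>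
    okRows_sound hinv hk hk16 hf rows13 13000 rows13_ok h13 d (by rw [rows13_len]; exact hd)
  have h15 : ∀ d < 15000, RowOK data table base s d := fun d hd =>
    okRows_sound hinv hk hk16 hf rows14 14000 rows14_ok h14 d (by rw [rows14_len]; exact hd)
  have h16 : ∀ d < 16000, RowOK data table base s d := fun d hd =>
    okRows_sound hinv hk hk16 hf rows15 15000 rows15_ok h15 d (by rw [rows15_len]; exact hd)
  have h17 : ∀ d < 17000, RowOK data table base s d := fun d hd =>
    okRows_sound hinv hk hk16 hf rows16 16000 rows16_ok h16 d (by rw [rows16_len]; exact hd)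
  have h18 : ∀ d < 18000, RowOK data table base s d := fun d hd =>
    okRows_sound hinv hk hk16 hf rows17 17000 rows17_ok h17 d (by rw [rows17_len]; exact hd)
  have h19 : ∀ d < 19000, RowOK data table base s d := fun d hd =>
    okRows_sound hinv hk hk16 hf rows18 18000 rows18_ok h18 d (by rw [rows18_len]; exact hd)
  have h20 : ∀ d < 20000, RowOK data table base s d := fun d hd =>
    okRows_sound hinv hk hk16 hf rows19 19000 rows19_ok h19 d (by rw [rows19_len]; exact hd)
  have h21 : ∀ d < 21000, RowOK data table base s d := fun d hd =>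
    okRows_sound hinv hk hk16 hf rows20 20000 rows20_ok h20 d (by rw [rows20_len]; exact hd)
  have h22 : ∀ d < 22000, RowOK data table base s d := fun d hd =>
    okRows_sound hinv hk hk16 hf rows21 21000 rows21_ok h21 d (by rw [rows21_len]; exact hd)
  have h23 : ∀ d < 22880, RowOK data table base s d := fun d hd =>
    okRows_sound hinv hk hk16 hf rows22 22000 rows22_ok h22 d (by rw [rows22_len]; exact hd)
  exact h23

theorem points : ∀ d < 22880, PointOK table 7 presSuz.rels d := by
  rw [rels_eq]
  have h0 : ∀ d < 0, PointOK table 7 rels d := fun d hd => absurd hd (Nat.not_lt_zero d)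
  have h1 : ∀ d < 500, PointOK table 7 rels d := okPoints_sound points0_ok h0
  have h2 : ∀ d < 1000, PointOK table 7 rels d := okPoints_sound points1_ok h1
  have h3 : ∀ d < 1500, PointOK table 7 rels d := okPoints_sound points2_ok h2
  have h4 : ∀ d < 2000, PointOK table 7 rels d := okPoints_sound points3_ok h3
  have h5 : ∀ d < 2500, PointOK table 7 rels d := okPoints_sound points4_ok h4
  have h6 : ∀ d < 3000, PointOK table 7 rels d := okPoints_sound points5_ok h5
  have h7 : ∀ d < 3500, PointOK table 7 rels d := okPoints_sound points6_ok h6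
  have h8 : ∀ d < 4000, PointOK table 7 rels d := okPoints_sound points7_ok h7
  have h9 : ∀ d < 4500, PointOK table 7 rels d := okPoints_sound points8_ok h8
  have h10 : ∀ d < 5000, PointOK table 7 rels d := okPoints_sound points9_ok h9
  have h11 : ∀ d < 5500, PointOK table 7 rels d := okPoints_sound points10_ok h10
  have h12 : ∀ d < 6000, PointOK table 7 rels d := okPoints_sound points11_ok h11
  have h13 : ∀ d < 6500, PointOK table 7 rels d := okPoints_sound points12_ok h12
  have h14 : ∀ d < 7000, PointOK table 7 rels d := okPoints_sound points13_ok h13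
  have h15 : ∀ d < 7500, PointOK table 7 rels d := okPoints_sound points14_ok h14
  have h16 : ∀ d < 8000, PointOK table 7 rels d := okPoints_sound points15_ok h15
  have h17 : ∀ d < 8500, PointOK table 7 rels d := okPoints_sound points16_ok h16
  have h18 : ∀ d < 9000, PointOK table 7 rels d := okPoints_sound points17_ok h17
  have h19 : ∀ d < 9500, PointOK table 7 rels d := okPoints_sound points18_ok h18
  have h20 : ∀ d < 10000, PointOK table 7 rels d := okPoints_sound points19_ok h19
  have h21 : ∀ d < 10500, PointOK table 7 rels d := okPoints_sound points20_ok h20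
  have h22 : ∀ d < 11000, PointOK table 7 rels d := okPoints_sound points21_ok h21
  have h23 : ∀ d < 11500, PointOK table 7 rels d := okPoints_sound points22_ok h22
  have h24 : ∀ d < 12000, PointOK table 7 rels d := okPoints_sound points23_ok h23
  have h25 : ∀ d < 12500, PointOK table 7 rels d := okPoints_sound points24_ok h24
  have h26 : ∀ d < 13000, PointOK table 7 rels d := okPoints_sound points25_ok h25
  have h27 : ∀ d < 13500, PointOK table 7 rels d := okPoints_sound points26_ok h26
  have h28 : ∀ d < 14000, PointOK table 7 rels d := okPoints_sound points27_ok h27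
  have h29 : ∀ d < 14500, PointOK table 7 rels d := okPoints_sound points28_ok h28
  have h30 : ∀ d < 15000, PointOK table 7 rels d := okPoints_sound points29_ok h29
  have h31 : ∀ d < 15500, PointOK table 7 rels d := okPoints_sound points30_ok h30
  have h32 : ∀ d < 16000, PointOK table 7 rels d := okPoints_sound points31_ok h31
  have h33 : ∀ d < 16500, PointOK table 7 rels d := okPoints_sound points32_ok h32
  have h34 : ∀ d < 17000, PointOK table 7 rels d := okPoints_sound points33_ok h33
  have h35 : ∀ d < 17500, PointOK table 7 rels d := okPoints_sound points34_ok h34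
  have h36 : ∀ d < 18000, PointOK table 7 rels d := okPoints_sound points35_ok h35
  have h37 : ∀ d < 18500, PointOK table 7 rels d := okPoints_sound points36_ok h36
  have h38 : ∀ d < 19000, PointOK table 7 rels d := okPoints_sound points37_ok h37
  have h39 : ∀ d < 19500, PointOK table 7 rels d := okPoints_sound points38_ok h38
  have h40 : ∀ d < 20000, PointOK table 7 rels d := okPoints_sound points39_ok h39
  have h41 : ∀ d < 20500, PointOK table 7 rels d := okPoints_sound points40_ok h40
  have h42 : ∀ d < 21000, PointOK table 7 rels d := okPoints_sound points41_ok h41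
  have h43 : ∀ d < 21500, PointOK table 7 rels d := okPoints_sound points42_ok h42
  have h44 : ∀ d < 22000, PointOK table 7 rels d := okPoints_sound points43_ok h43
  have h45 : ∀ d < 22500, PointOK table 7 rels d := okPoints_sound points44_ok h44
  have h46 : ∀ d < 22880, PointOK table 7 rels d := okPoints_sound points45_ok h45
  exact h46

theorem words_ok : okWords data presSuz.rels hw rots = true := by
  rw [rels_eq]; decide +kernel

/-- The certified enumeration. -/
noncomputable def cert : Cert presSuz where
  D := data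
  T := table
  hw := hw
  rots := rots
  nf := 95040
  hk := rfl
  hk16 := show 7 < 16 by decide
  nh_le := show 6 ≤ 103 by decide
  hn := show 0 < 22880 by decide
  hrep := by decide +kernel
  words_ok := words_ok
  facts_ok := rows
  points_ok := points
  base_ok := by decide +kernel

theorem hlt : ∀ w ∈ presSuz.rels, ∀ x ∈ w, x < presSuz.k := by
  rw [rels_eq]; exact (show ∀ w ∈ rels, ∀ x ∈ w, x < 7 by decide +kernel)

theorem hhw : ∀ w ∈ hw, ∀ x ∈ w, x < 7 := by decide +kernel


end CfsgLib.CosetEnum.Suz22880
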